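import Mathlib

/-!
# Deforming multiplications with a separability element
-/

set_option autoImplicit false

universe u v
open Finset
noncomputable section

namespace Groth.Agent.AzLift

variable {B : Type u} [CommRing B] {I : Ideal B} {V : Type v} [AddCommGroup V] [Module B V]

lemma apply_smul_top {W : Type v} [AddCommGroup W] [Module B W] (f : V →ₗ[B] W) {z : V}
    (hz : z ∈ I • (⊤ : Submodule B V)) : f z ∈ I • (⊤ : Submodule B W) := by
  refine Submodule.smul_induction_on hz (fun r hr w _ => ?_) (fun a b ha hb => ?_)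
  · rw [map_smul]; exact Submodule.smul_mem_smul hr trivial
  · rw [map_add]; exact add_mem ha hb

lemma smul_eq_zero_of_mem (hI : I ^ 2 = ⊥) {r : B} (hr : r ∈ I) {z : V} (hz : z ∈ I • (⊤ : Submodule B V)) :
    r • z = 0 := by
  refine Submodule.smul_induction_on hz (fun s hs w _ => ?_) (fun a b ha hb => by rw [smul_add, ha, hb, add_zero])
  have : r * s ∈ (⊥ : Ideal B) := by rw [← hI, sq]; exact Ideal.mul_mem_mul hr hs
  rw [smul_smul, (Submodule.mem_bot B).1 this, zero_smul]

lemma bilinear_eq_zero (hI : I ^ 2 = ⊥) {W : Type v} [AddCommGroup W] [Module B W] (μ : V →ₗ[B] V →ₗ[B] W) {z w : V}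
    (hz : z ∈ I • (⊤ : Submodule B V)) (hw : w ∈ I • (⊤ : Submodule B V)) : μ z w = 0 := by
  refine Submodule.smul_induction_on hz (fun r hr u _ => ?_) (fun a b ha hb => by rw [map_add, LinearMap.add_apply, ha, hb, add_zero])
  rw [map_smul, LinearMap.smul_apply]
  exact smul_eq_zero_of_mem hI hr (apply_smul_top (μ u) hw)

/-- A multiplication which is associative modulo a square zero ideal and has a separability element modulo it
can be corrected to an associative one. -/
theorem exists_assoc (hI : I ^ 2 = ⊥) (μ : V →ₗ[B] V →ₗ[B] V) (e : V)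
    (hel : ∀ a, μ e a = a) (her : ∀ a, μ a e = a)
    (hassoc : ∀ a b c, μ (μ a b) c - μ a (μ b c) ∈ I • (⊤ : Submodule B V))
    {n : ℕ} (x y : Fin n → V) (hxy : ∑ i, μ (x i) (y i) - e ∈ I • (⊤ : Submodule B V))
    (hcen : ∀ (a : V) (Ψ : V →ₗ[B] V →ₗ[B] V), (∀ p q, Ψ p q ∈ I • (⊤ : Submodule B V)) →
      ∑ i, Ψ (μ a (x i)) (y i) = ∑ i, Ψ (x i) (μ (y i) a)) :
    ∃ μ' : V →ₗ[B] V →ₗ[B] V, (∀ a, μ' e a = a) ∧ (∀ a, μ' a e = a) ∧
      (∀ a b, μ' a b - μ a b ∈ I • (⊤ : Submodule B V)) ∧ ∀ a b c, μ' (μ' a b) c = μ' a (μ' b c) := by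
  let F : V → V → V → V := fun a b c => μ (μ a b) c - μ a (μ b c)
  let g : V →ₗ[B] V →ₗ[B] V := LinearMap.mk₂ B (fun a b => ∑ i, μ (x i) (F (y i) a b))
    (fun a a' b => by simp only [F, map_add, map_sub, LinearMap.add_apply, sum_sub_distrib, sum_add_distrib]; abel)
    (fun r a b => by simp [F, map_sub, ← smul_sub, ← smul_sum])
    (fun a b b' => by simp only [F, map_add, map_sub, LinearMap.add_apply, sum_sub_distrib, sum_add_distrib]; abel)
    (fun r a b => by simp [F, map_sub, ← smul_sub, ← smul_sum])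
  have hgW : ∀ a b, g a b ∈ I • (⊤ : Submodule B V) := fun a b => by
    show ∑ i, μ (x i) (F (y i) a b) ∈ _
    exact Submodule.sum_mem _ fun i _ => apply_smul_top _ (hassoc _ _ _)
  have hz : ∀ p q : V, ∀ z ∈ I • (⊤ : Submodule B V), μ (μ p q) z = μ p (μ q z) := fun p q z hz => by
    refine Submodule.smul_induction_on hz (fun r hr w _ => ?_) (fun u w hu hw => by simp only [map_add, hu, hw])
    simp only [map_smul]
    rw [← sub_eq_zero, ← smul_sub]
    exact smul_eq_zero_of_mem hI hr (hassoc p q w)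
  have hzr : ∀ p q : V, ∀ z ∈ I • (⊤ : Submodule B V), μ (μ p z) q = μ p (μ z q) := fun p q z hz => by
    refine Submodule.smul_induction_on hz (fun r hr w _ => ?_) (fun u w hu hw => by
      simp only [map_add, LinearMap.add_apply, hu, hw])
    simp only [map_smul, LinearMap.smul_apply]
    rw [← sub_eq_zero, ← smul_sub]
    exact smul_eq_zero_of_mem hI hr (hassoc p w q)
  have pent : ∀ p a b c, F (μ p a) b c = μ p (F a b c) + μ (F p a b) c + F p (μ a b) c - F p a (μ b c) := by
    intro p a b c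
    simp only [F, map_sub, LinearMap.sub_apply]
    abel
  have key : ∀ a b c, F a b c = μ a (g b c) - μ (g a b) c - g (μ a b) c + g a (μ b c) := by
    intro a b c
    let Ψ : V →ₗ[B] V →ₗ[B] V := LinearMap.mk₂ B (fun p q => μ p (F q b c))
      (fun p p' q => by simp [map_add]) (fun r p q => by simp)
      (fun p q q' => by simp [F, map_add, map_sub]; abel) (fun r p q => by simp [F, map_sub, ← smul_sub])
    have hΨ : ∀ p q, Ψ p q ∈ I • (⊤ : Submodule B V) := fun p q => apply_smul_top (μ p) (hassoc q b c)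
    have h1 : μ a (g b c) = ∑ i, μ (x i) (F (μ (y i) a) b c) := by
      show μ a (∑ i, μ (x i) (F (y i) b c)) = _
      rw [map_sum]
      exact (sum_congr rfl fun i _ => (hz a (x i) _ (hassoc _ _ _)).symm).trans (hcen a Ψ hΨ)
    have h2 : ∑ i, μ (x i) (μ (y i) (F a b c)) = F a b c := by
      rw [show ∑ i, μ (x i) (μ (y i) (F a b c)) = μ (∑ i, μ (x i) (y i)) (F a b c) by
        rw [map_sum, LinearMap.sum_apply]
        exact sum_congr rfl fun i _ => (hz _ _ _ (hassoc _ _ _)).symm]
      conv_rhs => rw [← hel (F a b c)]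
      rw [← sub_eq_zero, ← LinearMap.sub_apply, ← map_sub]
      exact bilinear_eq_zero hI μ hxy (hassoc _ _ _)
    have h3 : ∑ i, μ (x i) (μ (F (y i) a b) c) = μ (g a b) c := by
      show _ = μ (∑ i, μ (x i) (F (y i) a b)) c
      rw [map_sum, LinearMap.sum_apply]
      exact sum_congr rfl fun i _ => (hzr _ _ _ (hassoc _ _ _)).symm
    rw [h1, sum_congr rfl fun i _ => by rw [pent]]
    simp only [map_add, map_sub, sum_add_distrib, sum_sub_distrib, h2, h3]
    show F a b c = F a b c + μ (g a b) c + g (μ a b) c - g a (μ b c) - μ (g a b) c - g (μ a b) c + g a (μ b c)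
    abel
  refine ⟨μ + g, fun a => ?_, fun a => ?_, fun a b => ?_, fun a b c => ?_⟩
  · simp [g, F, hel, her]
  · simp [g, F, hel, her]
  · simpa using hgW a b
  · simp only [LinearMap.add_apply, map_add]
    have hg2 : ∀ p q z, g (g p q) z = 0 := fun p q z => by
      show ∑ i, μ (x i) (F (y i) (g p q) z) = 0
      refine sum_eq_zero fun i _ => ?_
      have h : F (y i) (g p q) z = 0 := sub_eq_zero.2 (hzr _ _ _ (hgW p q))
      rw [h, map_zero]
    have hg3 : ∀ p q z, g z (g p q) = 0 := fun p q z => by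
      show ∑ i, μ (x i) (F (y i) z (g p q)) = 0
      refine sum_eq_zero fun i _ => ?_
      have h : F (y i) z (g p q) = 0 := sub_eq_zero.2 (hz _ _ _ (hgW p q))
      rw [h, map_zero]
    rw [hg2, hg3, ← sub_eq_zero]
    have := key a b c
    simp only [F] at this
    rw [sub_eq_iff_eq_add] at this
    rw [this]
    abel

end Groth.Agent.AzLift
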