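import Groth.Agent.AzLift.Scheme
import Groth.Agent.Azumaya.Fibre
import Groth.Agent.Hensel.Smooth

/-!
# Lifting central simple algebras over henselian local rings
-/

set_option autoImplicit false

universe u v
open Finset TensorProduct
noncomputable section

namespace Groth.Agent.AzLift

variable {R : Type u} [CommRing R] {m : ℕ}

/-- The algebra with given structure constants. -/
def SCAlg (c : Idx (m + 1) → R) (_h : IsMult (mulOf c)) : Type u := Fin (m + 1) → R

namespace SCAlg

variable {c : Idx (m + 1) → R} {h : IsMult (mulOf c)}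

instance : AddCommGroup (SCAlg c h) := inferInstanceAs (AddCommGroup (Fin (m + 1) → R))
instance : Module R (SCAlg c h) := inferInstanceAs (Module R (Fin (m + 1) → R))

/-- Coordinates. -/
def equiv : SCAlg c h ≃ₗ[R] (Fin (m + 1) → R) := LinearEquiv.refl R _

instance : Module.Finite R (SCAlg c h) := Module.Finite.equiv (equiv (c := c) (h := h)).symm
instance : Module.Free R (SCAlg c h) := Module.Free.of_equiv (equiv (c := c) (h := h)).symm

instance : Ring (SCAlg c h) where
  __ := (inferInstance : AddCommGroup (SCAlg c h))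
  mul a b := mulOf c a b
  one := bv 0
  left_distrib a b d := map_add (mulOf c a) b d
  right_distrib a b d := LinearMap.map_add₂ (mulOf c) a b d
  zero_mul a := LinearMap.map_zero₂ (mulOf c) a
  mul_zero a := map_zero (mulOf c a)
  mul_assoc := h.assoc
  one_mul := h.one_mul
  mul_one := h.mul_one

instance : Algebra R (SCAlg c h) := Algebra.ofModule (fun r a b => LinearMap.map_smul₂ (mulOf c) r a b)
  (fun r a b => map_smul (mulOf c a) r b)

end SCAlg

/-- A basis starting with the unit. -/
lemma exists_basis_one (k : Type u) [Field k] (A : Type v) [Ring A] [Nontrivial A] [Algebra k A] [FiniteDimensional k A] :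
    ∃ (m : ℕ) (b : Module.Basis (Fin (m + 1)) k A), b 0 = 1 := by
  have hs : LinearIndepOn k id ({1} : Set A) := LinearIndepOn.singleton one_ne_zero
  let b₀ := Module.Basis.extend hs
  haveI : Fintype (hs.extend (Set.subset_univ _)) := FiniteDimensional.fintypeBasisIndex b₀
  have hmem : (1 : A) ∈ hs.extend (Set.subset_univ _) := hs.subset_extend _ rfl
  obtain ⟨m, hm⟩ : ∃ m, Fintype.card (hs.extend (Set.subset_univ _)) = m + 1 :=
    Nat.exists_eq_add_one.2 (Fintype.card_pos_iff.2 ⟨⟨1, hmem⟩⟩)
  let σ := Fintype.equivFinOfCardEq hm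
  refine ⟨m, b₀.reindex (σ.trans (Equiv.swap 0 (σ ⟨1, hmem⟩))), ?_⟩
  simp [b₀, Module.Basis.extend_apply_self]

/-- **Lifting central simple algebras.** -/
theorem exists_azumaya_lift (R : Type u) [CommRing R] [HenselianLocalRing R] (A₀ : Type u) [Ring A₀]
    [Algebra (IsLocalRing.ResidueField R) A₀] [Algebra.IsCentral (IsLocalRing.ResidueField R) A₀] [IsSimpleRing A₀]
    [FiniteDimensional (IsLocalRing.ResidueField R) A₀] :
    ∃ (A : Type u) (_ : Ring A) (_ : Algebra R A), IsAzumaya R A ∧
      Nonempty ((IsLocalRing.ResidueField R ⊗[R] A) ≃ₐ[IsLocalRing.ResidueField R] A₀) := by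
  classical
  let k := IsLocalRing.ResidueField R
  obtain ⟨m, b, hb⟩ := exists_basis_one k A₀
  let c₀ : Idx (m + 1) → k := fun q => b.repr (b q.1 * b q.2.1) q.2.2
  let φ : (Fin (m + 1) → k) ≃ₗ[k] A₀ := b.equivFun.symm
  have hφ : ∀ i, φ (bv i) = b i := fun i => by simp [φ, bv, Pi.single_apply]
  have hφm : ∀ p q, φ (mulOf c₀ p q) = φ p * φ q := fun p q => by
    conv_lhs => rw [vec_eq p, vec_eq q]
    conv_rhs => rw [vec_eq p, vec_eq q]
    simp only [map_sum, map_smul, LinearMap.sum_apply, LinearMap.smul_apply, Finset.sum_mul, Finset.mul_sum, smul_mul_assoc,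
      mul_smul_comm, Finset.smul_sum]
    refine sum_congr rfl fun i _ => sum_congr rfl fun j _ => ?_
    congr 2
    rw [mulOf_bv, hφ, hφ]
    simp only [φ, c₀, Module.Basis.equivFun_symm_apply]
    exact b.sum_repr _
  have h0 : IsMult (mulOf c₀) := by
    refine ⟨fun p q r => φ.injective ?_, fun p => φ.injective ?_, fun p => φ.injective ?_⟩
    · rw [hφm, hφm, hφm, hφm, mul_assoc]
    · rw [hφm, hφ, hb, one_mul]
    · rw [hφm, hφ, hb, mul_one]
  -- the sandwich map is invertible
  have hdet : IsUnit (sandwich c₀).det := by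
    rw [← Matrix.isUnit_iff_isUnit_det, ← Matrix.mulVec_injective_iff_isUnit]
    intro T T' hTT'
    rw [← sub_eq_zero] at hTT' ⊢
    change (sandwich c₀).mulVec T - (sandwich c₀).mulVec T' = 0 at hTT'
    rw [← Matrix.mulVec_sub] at hTT'
    set D := T - T'
    have hz : ∀ l, ∑ i, ∑ j, D (i, j) • (b i * b l * b j) = 0 := fun l => by
      have h1 : ∑ i, ∑ j, D (i, j) • mulOf c₀ (mulOf c₀ (bv i) (bv l)) (bv j) = 0 := by
        funext k'
        rw [← sandwich_mulVec, hTT']
        rfl
      have h2 := congrArg φ h1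
      simp only [map_sum, map_smul, hφm, hφ, map_zero] at h2
      exact h2
    let t : A₀ ⊗[k] A₀ᵐᵒᵖ := ∑ i, ∑ j, D (i, j) • (b i ⊗ₜ MulOpposite.op (b j))
    have ht : t = 0 := by
      refine (Azumaya.mulLeftRight_bijective k A₀).1 ?_
      rw [map_zero]
      refine b.ext fun l => ?_
      simp only [t, map_sum, map_smul, LinearMap.sum_apply, LinearMap.smul_apply, AlgHom.mulLeftRight_apply,
        MulOpposite.unop_op, LinearMap.zero_apply]
      exact hz l
    funext ⟨i, j⟩
    let B2 := b.tensorProduct (b.map (MulOpposite.opLinearEquiv k : A₀ ≃ₗ[k] A₀ᵐᵒᵖ))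
    have hB : ∀ i j, B2 (i, j) = b i ⊗ₜ MulOpposite.op (b j) := fun i j => by simp [B2]
    have hsum : t = B2.equivFun.symm D := by
      rw [Module.Basis.equivFun_symm_apply, Fintype.sum_prod_type]
      simp only [hB]
      rfl
    have h3 : D = 0 := B2.equivFun.symm.injective (by rw [← hsum, ht, map_zero])
    exact congrFun h3 (i, j)
  obtain ⟨σ, hσ⟩ := exists_hom (R := R) (B := k) c₀ ((rel_eq_zero_iff c₀).2 h0) hdet
  obtain ⟨τ, hτ⟩ := Hensel.exists_smooth_lift (I := IsLocalRing.maximalIdeal R) (Coord m R) σ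
  let c : Idx (m + 1) → R := fun q => τ (univC q)
  have hc : IsMult (mulOf c) := (rel_eq_zero_iff c).1 fun r => by
    show rel (τ.toRingHom ∘ univC) r = 0
    rw [← map_rel, rel_univC, map_zero]
  have hres : (algebraMap R k) ∘ c = c₀ := funext fun q => (hτ (univC q)).trans (hσ q)
  let A := SCAlg c hc
  letI : Algebra R A₀ := ((algebraMap k A₀).comp (algebraMap R k)).toAlgebra' fun r x => Algebra.commutes _ x
  haveI : IsScalarTower R k A₀ := IsScalarTower.of_algebraMap_eq fun _ => rfl
  let ψ : A →ₐ[R] A₀ := AlgHom.ofLinearMap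
    { toFun := fun a => φ (algebraMap R k ∘ (a : Fin (m + 1) → R))
      map_add' := fun a a' => by
        rw [← map_add, show algebraMap R k ∘ ((a + a' : A) : Fin (m + 1) → R) = algebraMap R k ∘ (a : Fin (m + 1) → R) + algebraMap R k ∘ (a' : Fin (m + 1) → R) from funext fun i => map_add (algebraMap R k) _ _]
      map_smul' := fun r a => by
        have h : algebraMap R k ∘ ((r • a : A) : Fin (m + 1) → R) = algebraMap R k r • (algebraMap R k ∘ (a : Fin (m + 1) → R)) :=
          funext fun i => map_mul (algebraMap R k) r _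
        rw [RingHom.id_apply, h, map_smul, IsScalarTower.algebraMap_smul] }
    (by
      show φ (algebraMap R k ∘ (bv 0 : Fin (m + 1) → R)) = 1
      rw [show algebraMap R k ∘ (bv 0 : Fin (m + 1) → R) = bv 0 from funext fun i => by
        by_cases hi : i = 0 <;> simp [bv, Pi.single_apply, hi], hφ, hb])
    (fun a a' => by
      show φ (algebraMap R k ∘ mulOf c a a') = _
      rw [map_mulOf, hres, hφm]
      rfl)
  let Φ : k ⊗[R] A →ₐ[k] A₀ := Algebra.TensorProduct.lift (Algebra.ofId k A₀) ψ fun _ _ => Algebra.commutes _ _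
  have hΦ : Function.Bijective Φ := by
    let bA : Module.Basis (Fin (m + 1)) R A := (Pi.basisFun R _).map SCAlg.equiv.symm
    have he : Φ.toLinearMap = ((Algebra.TensorProduct.basis k bA).equiv b (Equiv.refl _)).toLinearMap := by
      refine (Algebra.TensorProduct.basis k bA).ext fun i => ?_
      rw [LinearEquiv.coe_coe, Module.Basis.equiv_apply, AlgHom.toLinearMap_apply, Algebra.TensorProduct.basis_apply,
        Algebra.TensorProduct.lift_tmul, map_one, one_mul]
      show φ (algebraMap R k ∘ (Pi.basisFun R _ i)) = b i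
      rw [show algebraMap R k ∘ (Pi.basisFun R (Fin (m + 1)) i) = bv i from funext fun j => by
        by_cases hj : j = i <;> simp [bv, Pi.single_apply, hj], hφ]
    have : (Φ : k ⊗[R] A → A₀) = (Algebra.TensorProduct.basis k bA).equiv b (Equiv.refl _) := funext fun x => LinearMap.congr_fun he x
    rw [this]
    exact LinearEquiv.bijective _
  let e := AlgEquiv.ofBijective Φ hΦ
  refine ⟨A, inferInstance, inferInstance, (Azumaya.isAzumaya_iff_closed_fibre A).2 ⟨?_, ?_⟩, ⟨e⟩⟩
  · exact Algebra.IsCentral.of_algEquiv k A₀ _ e.symm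
  · exact IsSimpleRing.of_ringEquiv e.symm.toRingEquiv inferInstance

end Groth.Agent.AzLift
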