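import Groth.Agent.AzLift.Deform

/-!
# The smooth scheme of Azumaya structure constants
-/

set_option autoImplicit false

universe u v
open Finset
noncomputable section

namespace Groth.Agent.AzLift

/-- Indices of structure constants. -/
abbrev Idx (n : ℕ) := Fin n × Fin n × Fin n

variable {S : Type u} [CommRing S] {n m : ℕ}

/-- The multiplication with given structure constants. -/
def mulOf (c : Idx n → S) : (Fin n → S) →ₗ[S] (Fin n → S) →ₗ[S] (Fin n → S) :=
  LinearMap.mk₂ S (fun a b k => ∑ i, ∑ j, a i * b j * c (i, j, k))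
    (fun a a' b => by ext k; simp [add_mul, sum_add_distrib])
    (fun r a b => by ext k; simp [mul_assoc, mul_sum])
    (fun a b b' => by ext k; simp [mul_add, add_mul, sum_add_distrib])
    (fun r a b => by ext k; simp [mul_assoc, mul_sum, mul_left_comm])

/-- The standard basis. -/
abbrev bv (i : Fin n) : Fin n → S := Pi.single i 1

lemma mulOf_bv (c : Idx n → S) (i j : Fin n) : mulOf c (bv i) (bv j) = fun k => c (i, j, k) := by
  classical
  ext k
  simp [mulOf, bv, Pi.single_apply]

lemma vec_eq (a : Fin n → S) : a = ∑ i, a i • bv i := by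
  classical
  ext k
  simp [bv, Pi.single_apply]

lemma map_mulOf {S' : Type u} [CommRing S'] (f : S →+* S') (c : Idx n → S) (a b : Fin n → S) :
    f ∘ mulOf c a b = mulOf (f ∘ c) (f ∘ a) (f ∘ b) := by
  ext k
  simp [mulOf, map_sum]

lemma smul_top_iff (I : Ideal S) (z : Fin n → S) : z ∈ I • (⊤ : Submodule S (Fin n → S)) ↔ ∀ k, z k ∈ I := by
  refine ⟨fun hz k => ?_, fun h => ?_⟩
  · refine Submodule.smul_induction_on hz (fun r hr w _ => ?_) (fun a b ha hb => I.add_mem ha hb)
    exact I.mul_mem_right _ hr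
  · rw [vec_eq z]
    exact Submodule.sum_mem _ fun k _ => Submodule.smul_mem_smul (h k) trivial

lemma smul_top_iff_mk (I : Ideal S) (z : Fin n → S) :
    z ∈ I • (⊤ : Submodule S (Fin n → S)) ↔ Ideal.Quotient.mk I ∘ z = 0 := by
  rw [smul_top_iff, funext_iff]
  simp [Ideal.Quotient.eq_zero_iff_mem]

/-- Names of the equations. -/
abbrev RelIdx (m : ℕ) := (Fin (m + 1) × Idx (m + 1)) ⊕ (Fin (m + 1) × Fin (m + 1)) ⊕ (Fin (m + 1) × Fin (m + 1))

/-- The equations of associative unital multiplications. -/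
def rel (c : Idx (m + 1) → S) : RelIdx m → S
  | .inl (a, b, d, k) => ∑ l, c (a, b, l) * c (l, d, k) - ∑ l, c (b, d, l) * c (a, l, k)
  | .inr (.inl (j, k)) => c (0, j, k) - if j = k then 1 else 0
  | .inr (.inr (j, k)) => c (j, 0, k) - if j = k then 1 else 0

lemma map_rel {S' : Type u} [CommRing S'] (f : S →+* S') (c : Idx (m + 1) → S) (r : RelIdx m) :
    f (rel c r) = rel (f ∘ c) r := by
  rcases r with ⟨a, b, d, k⟩ | ⟨j, k⟩ | ⟨j, k⟩ <;> simp [rel, map_sum, apply_ite f]

/-- Associative unital multiplications. -/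
structure IsMult (μ : (Fin (m + 1) → S) →ₗ[S] (Fin (m + 1) → S) →ₗ[S] (Fin (m + 1) → S)) : Prop where
  assoc : ∀ a b c, μ (μ a b) c = μ a (μ b c)
  one_mul : ∀ a, μ (bv 0) a = a
  mul_one : ∀ a, μ a (bv 0) = a

lemma rel_eq_zero_iff (c : Idx (m + 1) → S) : (∀ r, rel c r = 0) ↔ IsMult (mulOf c) := by
  classical
  constructor
  · intro h
    have hb : ∀ i j d, mulOf c (mulOf c (bv i) (bv j)) (bv d) = mulOf c (bv i) (mulOf c (bv j) (bv d)) := by
      intro i j d
      funext k
      rw [mulOf_bv, mulOf_bv]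
      have := h (.inl (i, j, d, k))
      simp only [rel, sub_eq_zero] at this
      simpa [mulOf, bv, Pi.single_apply] using this
    refine ⟨fun a b d => ?_, fun a => ?_, fun a => ?_⟩
    · have s1 : ∀ i j d, mulOf c (mulOf c (bv i) (bv j)) d = mulOf c (bv i) (mulOf c (bv j) d) := fun i j d => by
        rw [vec_eq d]; simp only [map_sum, map_smul, hb]
      have s2 : ∀ i b d, mulOf c (mulOf c (bv i) b) d = mulOf c (bv i) (mulOf c b d) := fun i b d => by
        rw [vec_eq b]; simp only [map_sum, map_smul, LinearMap.sum_apply, LinearMap.smul_apply, s1]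
      rw [vec_eq a]; simp only [map_sum, map_smul, LinearMap.sum_apply, LinearMap.smul_apply, s2]
    · conv_rhs => rw [vec_eq a]
      rw [vec_eq a, map_sum]
      refine sum_congr rfl fun j _ => ?_
      rw [map_smul]
      congr 1
      · rw [← vec_eq]
      funext k
      have := h (.inr (.inl (j, k)))
      simp only [rel, sub_eq_zero] at this
      rw [mulOf_bv]
      simp only [this, bv, Pi.single_apply, eq_comm]
    · conv_rhs => rw [vec_eq a]
      rw [vec_eq a, map_sum, LinearMap.sum_apply]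
      refine sum_congr rfl fun j _ => ?_
      rw [map_smul, LinearMap.smul_apply]
      congr 1
      · rw [← vec_eq]
      funext k
      have := h (.inr (.inr (j, k)))
      simp only [rel, sub_eq_zero] at this
      rw [mulOf_bv]
      simp only [this, bv, Pi.single_apply, eq_comm]
  · intro h r
    rcases r with ⟨a, b, d, k⟩ | ⟨j, k⟩ | ⟨j, k⟩
    · have := congrFun (h.assoc (bv a) (bv b) (bv d)) k
      rw [mulOf_bv, mulOf_bv] at this
      simp only [rel, sub_eq_zero]
      simpa [mulOf, bv, Pi.single_apply] using this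
    · have := congrFun (h.one_mul (bv j)) k
      rw [mulOf_bv] at this
      simp only [rel, sub_eq_zero]
      simpa [bv, Pi.single_apply, eq_comm] using this
    · have := congrFun (h.mul_one (bv j)) k
      rw [mulOf_bv] at this
      simp only [rel, sub_eq_zero]
      simpa [bv, Pi.single_apply, eq_comm] using this

/-- The sandwich map `(i,j) ↦ (z ↦ eᵢ z eⱼ)` in coordinates. -/
def sandwich (c : Idx n → S) : Matrix (Fin n × Fin n) (Fin n × Fin n) S :=
  fun r q => ∑ p, c (q.1, r.2, p) * c (p, q.2, r.1)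

lemma map_sandwich {S' : Type u} [CommRing S'] (f : S →+* S') (c : Idx n → S) :
    (sandwich c).map f = sandwich (f ∘ c) := by
  ext r q
  simp [sandwich, map_sum]

lemma sandwich_mulVec (c : Idx n → S) (T : Fin n × Fin n → S) (k l : Fin n) :
    (sandwich c).mulVec T (k, l) = (∑ i, ∑ j, T (i, j) • mulOf c (mulOf c (bv i) (bv l)) (bv j)) k := by
  classical
  simp [Matrix.mulVec, dotProduct, sandwich, Fintype.sum_prod_type, mulOf_bv, mulOf, bv, Pi.single_apply, mul_comm, mul_sum]

/-- An invertible sandwich map gives a separability element. -/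
theorem exists_separability (c : Idx (m + 1) → S) (h : IsMult (mulOf c)) (hdet : IsUnit (sandwich c).det) :
    ∃ T : Fin (m + 1) × Fin (m + 1) → S,
      ∑ i, ∑ j, T (i, j) • mulOf c (bv i) (bv j) = bv 0 ∧
      ∀ (a : Fin (m + 1) → S) (k l : Fin (m + 1)),
        ∑ i, T (i, l) * mulOf c a (bv i) k = ∑ j, T (k, j) * mulOf c (bv j) a l := by
  classical
  have hu : IsUnit (sandwich c) := (Matrix.isUnit_iff_isUnit_det _).2 hdet
  obtain ⟨T, hT⟩ := Matrix.mulVec_surjective_iff_isUnit.2 hu
    (fun r : Fin (m + 1) × Fin (m + 1) => if r.1 = 0 ∧ r.2 = 0 then (1 : S) else 0)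
  have hval : ∀ l, ∑ i, ∑ j, T (i, j) • mulOf c (mulOf c (bv i) (bv l)) (bv j) = if l = 0 then bv 0 else 0 := by
    intro l
    funext k
    rw [← sandwich_mulVec, hT]
    by_cases hl : l = 0 <;> simp [hl, bv, Pi.single_apply]
  refine ⟨T, ?_, fun a k l => ?_⟩
  · have := hval 0
    simp only [h.mul_one, if_true] at this
    exact this
  let D : Fin (m + 1) × Fin (m + 1) → S := fun r =>
    ∑ i, T (i, r.2) * mulOf c a (bv i) r.1 - ∑ j, T (r.1, j) * mulOf c (bv j) a r.2
  suffices hD : D = 0 from sub_eq_zero.1 (congrFun hD (k, l))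
  refine Matrix.mulVec_injective_of_isUnit hu ?_
  rw [Matrix.mulVec_zero]
  funext ⟨k', l'⟩
  rw [sandwich_mulVec]
  let z : Fin (m + 1) → S := bv l'
  have e1 : ∑ i, ∑ j, (∑ p, T (p, j) * mulOf c a (bv p) i) • mulOf c (mulOf c (bv i) z) (bv j) =
      mulOf c a (∑ p, ∑ j, T (p, j) • mulOf c (mulOf c (bv p) z) (bv j)) := by
    simp only [map_sum, map_smul, Finset.sum_smul, mul_smul]
    rw [sum_comm]
    refine Eq.trans ?_ (Finset.sum_comm)
    refine sum_congr rfl fun j _ => ?_
    rw [sum_comm]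
    refine sum_congr rfl fun p _ => ?_
    rw [← smul_sum, ← h.assoc, ← h.assoc]
    congr 1
    conv_rhs => rw [vec_eq (mulOf c a (bv p))]
    simp only [map_sum, map_smul, LinearMap.sum_apply, LinearMap.smul_apply]
  have e2 : ∑ i, ∑ j, (∑ p, T (i, p) * mulOf c (bv p) a j) • mulOf c (mulOf c (bv i) z) (bv j) =
      mulOf c (∑ i, ∑ p, T (i, p) • mulOf c (mulOf c (bv i) z) (bv p)) a := by
    simp only [map_sum, map_smul, LinearMap.sum_apply, LinearMap.smul_apply, Finset.sum_smul, mul_smul]
    refine sum_congr rfl fun i _ => ?_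
    rw [sum_comm]
    refine sum_congr rfl fun p _ => ?_
    rw [← smul_sum, h.assoc _ (bv p) a]
    congr 1
    conv_rhs => rw [vec_eq (mulOf c (bv p) a)]
    simp only [map_sum, map_smul]
  simp only [D, sub_smul, sum_sub_distrib, Pi.sub_apply]
  rw [show bv l' = z from rfl, e1, e2, hval l']
  split_ifs with hl <;> simp [h.one_mul, h.mul_one]

/-- A square zero lift of an Azumaya multiplication. -/
theorem exists_lift {B : Type u} [CommRing B] {I : Ideal B} (hI : I ^ 2 = ⊥) (cbar : Idx (m + 1) → B ⧸ I)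
    (hrel : ∀ r, rel cbar r = 0) (hdet : IsUnit (sandwich cbar).det) :
    ∃ c : Idx (m + 1) → B, Ideal.Quotient.mk I ∘ c = cbar ∧ (∀ r, rel c r = 0) ∧ IsUnit (sandwich c).det := by
  classical
  choose c₁ hc₁ using fun q => Ideal.Quotient.mk_surjective (I := I) (cbar q)
  let δ : Fin (m + 1) → Fin (m + 1) → B := fun j k => if j = k then 1 else 0
  let c₀ : Idx (m + 1) → B := fun q => if q.1 = 0 then δ q.2.1 q.2.2 else if q.2.1 = 0 then δ q.1 q.2.2 else c₁ q
  have hq : Ideal.Quotient.mk I ∘ c₀ = cbar := by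
    funext ⟨i, j, k⟩
    simp only [Function.comp_apply, c₀, δ]
    split_ifs with h1 h2 h2 h3 <;> try exact hc₁ _
    all_goals first
      | (subst h1; have := hrel (.inr (.inl (j, k))); simp_all [rel, sub_eq_zero]; done)
      | (subst h2; have := hrel (.inr (.inr (i, k))); simp_all [rel, sub_eq_zero]; done)
  have h0 := (rel_eq_zero_iff cbar).1 hrel
  have hunit : (∀ a, mulOf c₀ (bv 0) a = a) ∧ ∀ a, mulOf c₀ a (bv 0) = a := by
    have u1 : ∀ j, mulOf c₀ (bv 0) (bv j) = bv j := fun j => by
      funext k; rw [mulOf_bv]; simp [c₀, δ, bv, Pi.single_apply, eq_comm]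
    have u2 : ∀ j, mulOf c₀ (bv j) (bv 0) = bv j := fun j => by
      funext k; rw [mulOf_bv]; by_cases hj : j = 0 <;> simp [c₀, δ, bv, Pi.single_apply, eq_comm, hj]
    exact ⟨fun a => (congrArg (mulOf c₀ (bv 0)) (vec_eq a)).trans (by
        simp only [map_sum, map_smul, u1]; exact (vec_eq a).symm),
      fun a => (congrArg (fun z => mulOf c₀ z (bv 0)) (vec_eq a)).trans (by
        simp only [map_sum, map_smul, LinearMap.sum_apply, LinearMap.smul_apply, u2]; exact (vec_eq a).symm)⟩
  have hmkbv : ∀ i : Fin (m + 1), Ideal.Quotient.mk I ∘ (bv i : Fin (m + 1) → B) = bv i := fun i => by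
    funext k; by_cases hk : k = i <;> simp [bv, Pi.single_apply, hk]
  have hassoc : ∀ a b d, mulOf c₀ (mulOf c₀ a b) d - mulOf c₀ a (mulOf c₀ b d) ∈ I • (⊤ : Submodule B _) := by
    intro a b d
    rw [smul_top_iff]
    intro k
    rw [← Ideal.Quotient.eq_zero_iff_mem, Pi.sub_apply, map_sub, sub_eq_zero]
    show (Ideal.Quotient.mk I ∘ mulOf c₀ (mulOf c₀ a b) d) k = (Ideal.Quotient.mk I ∘ mulOf c₀ a (mulOf c₀ b d)) k
    rw [map_mulOf, map_mulOf, map_mulOf, map_mulOf, hq, h0.assoc]
  obtain ⟨Tb, hT1, hT2⟩ := exists_separability cbar h0 hdet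
  choose T hT using fun q => Ideal.Quotient.mk_surjective (I := I) (Tb q)
  let y : Fin (m + 1) → Fin (m + 1) → B := fun i j => T (i, j)
  have hxy : ∑ i, mulOf c₀ (bv i) (y i) - bv 0 ∈ I • (⊤ : Submodule B (Fin (m + 1) → B)) := by
    rw [smul_top_iff]
    intro k
    rw [← Ideal.Quotient.eq_zero_iff_mem, Pi.sub_apply, map_sub, sub_eq_zero, Finset.sum_apply, map_sum]
    have hk := congrFun (hmkbv 0) k
    rw [Function.comp_apply] at hk
    rw [hk, ← hT1, Finset.sum_apply]
    refine sum_congr rfl fun i _ => ?_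
    show (Ideal.Quotient.mk I ∘ mulOf c₀ (bv i) (y i)) k = _
    rw [map_mulOf, hq, hmkbv, show Ideal.Quotient.mk I ∘ y i = fun j => Tb (i, j) from funext fun j => hT (i, j)]
    rw [vec_eq (fun j => Tb (i, j)), map_sum, Finset.sum_apply, Finset.sum_apply]
    exact sum_congr rfl fun j _ => by rw [map_smul]
  have hcen : ∀ (a : Fin (m + 1) → B) (Ψ : (Fin (m + 1) → B) →ₗ[B] (Fin (m + 1) → B) →ₗ[B] (Fin (m + 1) → B)),
      (∀ p q, Ψ p q ∈ I • (⊤ : Submodule B _)) →
      ∑ i, Ψ (mulOf c₀ a (bv i)) (y i) = ∑ i, Ψ (bv i) (mulOf c₀ (y i) a) := by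
    intro a Ψ hΨ
    have hL : ∑ i, Ψ (mulOf c₀ a (bv i)) (y i) =
        ∑ k, ∑ l, (∑ i, T (i, l) * mulOf c₀ a (bv i) k) • Ψ (bv k) (bv l) := by
      refine (sum_congr rfl fun i _ => show _ = ∑ k, ∑ l, (T (i, l) * mulOf c₀ a (bv i) k) • Ψ (bv k) (bv l) from ?_).trans ?_
      · conv_lhs => rw [vec_eq (mulOf c₀ a (bv i)), vec_eq (y i)]
        simp only [map_sum, map_smul, LinearMap.sum_apply, LinearMap.smul_apply, smul_sum, smul_smul, y]
        exact Finset.sum_comm
      · rw [Finset.sum_comm]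
        refine sum_congr rfl fun k _ => ?_
        rw [Finset.sum_comm]
        exact sum_congr rfl fun l _ => (sum_smul).symm
    have hR : ∑ i, Ψ (bv i) (mulOf c₀ (y i) a) =
        ∑ k, ∑ l, (∑ j, T (k, j) * mulOf c₀ (bv j) a l) • Ψ (bv k) (bv l) := by
      refine sum_congr rfl fun k _ => ?_
      conv_lhs => rw [vec_eq (y k)]
      simp only [map_sum, map_smul, LinearMap.sum_apply, LinearMap.smul_apply, y]
      refine (sum_congr rfl fun j _ => show _ = ∑ l, (T (k, j) * mulOf c₀ (bv j) a l) • Ψ (bv k) (bv l) from ?_).trans ?_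
      · conv_lhs => rw [vec_eq (mulOf c₀ (bv j) a)]
        simp only [map_sum, map_smul, smul_sum, smul_smul]
      · rw [Finset.sum_comm]
        exact sum_congr rfl fun l _ => (sum_smul).symm
    rw [hL, hR, ← sub_eq_zero, ← sum_sub_distrib]
    refine sum_eq_zero fun k _ => ?_
    rw [← sum_sub_distrib]
    refine sum_eq_zero fun l _ => ?_
    rw [← sub_smul]
    refine smul_eq_zero_of_mem hI ?_ (hΨ _ _)
    rw [← Ideal.Quotient.eq_zero_iff_mem, map_sub, map_sum, map_sum, sub_eq_zero]
    simp only [map_mul, hT]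
    simp only [show ∀ j, Ideal.Quotient.mk I (mulOf c₀ (bv j) a l) = mulOf cbar (bv j) (Ideal.Quotient.mk I ∘ a) l from fun j => by
      show (Ideal.Quotient.mk I ∘ mulOf c₀ (bv j) a) l = _
      rw [map_mulOf, hq, hmkbv], show ∀ i, Ideal.Quotient.mk I (mulOf c₀ a (bv i) k) = mulOf cbar (Ideal.Quotient.mk I ∘ a) (bv i) k from fun i => by
      show (Ideal.Quotient.mk I ∘ mulOf c₀ a (bv i)) k = _
      rw [map_mulOf, hq, hmkbv] ]
    exact hT2 _ k l
  obtain ⟨μ, h1, h2, h3, h4⟩ := exists_assoc hI (mulOf c₀) (bv 0) hunit.1 hunit.2 hassoc (fun i => bv i) y hxy hcen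
  let c : Idx (m + 1) → B := fun q => μ (bv q.1) (bv q.2.1) q.2.2
  have hc : mulOf c = μ := by
    refine LinearMap.ext fun a => LinearMap.ext fun b => ?_
    conv_lhs => rw [vec_eq a, vec_eq b]
    conv_rhs => rw [vec_eq a, vec_eq b]
    simp only [map_sum, map_smul, LinearMap.sum_apply, LinearMap.smul_apply, mulOf_bv]
    rfl
  have hcq : Ideal.Quotient.mk I ∘ c = cbar := by
    rw [← hq]
    funext ⟨i, j, k⟩
    have := (smul_top_iff I _).1 (h3 (bv i) (bv j)) k
    rw [mulOf_bv, Pi.sub_apply] at this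
    exact (Ideal.Quotient.eq.2 this)
  refine ⟨c, hcq, (rel_eq_zero_iff c).2 (hc ▸ ⟨h4, h1, h2⟩), ?_⟩
  have hker : IsNilpotent I := ⟨2, by rw [hI]; rfl⟩
  have := hdet
  rw [← hcq, ← map_sandwich, ← RingHom.mapMatrix_apply, ← RingHom.map_det] at this
  exact (IsNilpotent.isUnit_quotient_mk_iff hker).1 this

variable (R : Type u) [CommRing R] (m)

/-- The generic structure constants. -/
def genC : Idx (m + 1) → MvPolynomial (Idx (m + 1)) R := MvPolynomial.X

/-- The ideal of associative unital multiplications. -/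
def relIdeal : Ideal (MvPolynomial (Idx (m + 1)) R) := Ideal.span (Set.range (rel (genC m R)))

/-- The coordinate ring of Azumaya structures. -/
abbrev Coord : Type u := Localization.Away (Ideal.Quotient.mk (relIdeal m R) (sandwich (genC m R)).det)

variable {R m}

instance finitePresentation_coord : Algebra.FinitePresentation R (Coord m R) := by
  haveI : Algebra.FinitePresentation R (MvPolynomial (Idx (m + 1)) R ⧸ relIdeal m R) :=
    Algebra.FinitePresentation.quotient (Submodule.fg_span (Set.finite_range _))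
  haveI : Algebra.FinitePresentation (MvPolynomial (Idx (m + 1)) R ⧸ relIdeal m R) (Coord m R) :=
    IsLocalization.Away.finitePresentation (Ideal.Quotient.mk (relIdeal m R) (sandwich (genC m R)).det)
  exact Algebra.FinitePresentation.trans R (MvPolynomial (Idx (m + 1)) R ⧸ relIdeal m R) _

/-- The universal constants. -/
def univC : Idx (m + 1) → Coord m R := fun q => algebraMap _ _ (Ideal.Quotient.mk (relIdeal m R) (genC m R q))

lemma rel_univC (r : RelIdx m) : rel (univC (R := R)) r = 0 := by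
  show rel (((algebraMap (MvPolynomial (Idx (m + 1)) R ⧸ relIdeal m R) (Coord m R)).comp (Ideal.Quotient.mk _)) ∘ genC m R) r = 0
  rw [← map_rel, RingHom.comp_apply,
    Ideal.Quotient.eq_zero_iff_mem.2 (show rel (genC m R) r ∈ relIdeal m R from Ideal.subset_span ⟨r, rfl⟩), map_zero]

lemma det_univC : IsUnit (sandwich (univC (R := R) (m := m))).det := by
  show IsUnit (sandwich (((algebraMap (MvPolynomial (Idx (m + 1)) R ⧸ relIdeal m R) (Coord m R)).comp (Ideal.Quotient.mk _)) ∘ genC m R)).det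
  rw [← map_sandwich, ← RingHom.mapMatrix_apply, ← RingHom.map_det, RingHom.comp_apply]
  exact IsLocalization.Away.algebraMap_isUnit (S := Coord m R) _

/-- Points of the coordinate ring. -/
lemma exists_hom {B : Type u} [CommRing B] [Algebra R B] (c : Idx (m + 1) → B) (hrel : ∀ r, rel c r = 0)
    (hdet : IsUnit (sandwich c).det) : ∃ f : Coord m R →ₐ[R] B, ∀ q, f (univC q) = c q := by
  let e : MvPolynomial (Idx (m + 1)) R →ₐ[R] B := MvPolynomial.aeval c
  have hec : e.toRingHom ∘ genC m R = c := funext fun q => MvPolynomial.aeval_X c q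
  let q : (MvPolynomial (Idx (m + 1)) R ⧸ relIdeal m R) →ₐ[R] B := Ideal.Quotient.liftₐ _ e fun a ha => by
    refine RingHom.mem_ker.1 ((show relIdeal m R ≤ RingHom.ker e.toRingHom from Ideal.span_le.2 ?_) ha)
    rintro _ ⟨r, rfl⟩
    rw [SetLike.mem_coe, RingHom.mem_ker, map_rel, hec, hrel]
  have hq : IsUnit (q (Ideal.Quotient.mk (relIdeal m R) (sandwich (genC m R)).det)) := by
    show IsUnit (e.toRingHom (sandwich (genC m R)).det)
    rw [RingHom.map_det, RingHom.mapMatrix_apply, map_sandwich, hec]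
    exact hdet
  refine ⟨IsLocalization.liftAlgHom (S := Coord m R) (M := Submonoid.powers (Ideal.Quotient.mk (relIdeal m R) (sandwich (genC m R)).det))
    (f := q) (fun y => by obtain ⟨n, hn⟩ := y.2; rw [← hn]; simpa using hq.pow n), fun i => ?_⟩
  show IsLocalization.lift _ (algebraMap _ (Coord m R) _) = _
  rw [IsLocalization.lift_eq]
  exact MvPolynomial.aeval_X c i

lemma hom_ext {B : Type u} [CommRing B] [Algebra R B] {f g : Coord m R →ₐ[R] B}
    (h : ∀ q, f (univC q) = g (univC q)) : f = g := by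
  refine IsLocalization.algHom_ext (Submonoid.powers (Ideal.Quotient.mk (relIdeal m R) (sandwich (genC m R)).det)) ?_
  exact Ideal.Quotient.algHom_ext R (MvPolynomial.algHom_ext fun q => h q)

instance smooth_coord : Algebra.Smooth R (Coord m R) where
  formallySmooth := by
    refine Algebra.FormallySmooth.of_comp_surjective fun B _ _ I hI g => ?_
    have hrel : ∀ r, rel (g.toRingHom ∘ univC) r = 0 := fun r => by rw [← map_rel, rel_univC, map_zero]
    have hdet : IsUnit (sandwich (g.toRingHom ∘ univC)).det := by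
      rw [← map_sandwich, ← RingHom.mapMatrix_apply, ← RingHom.map_det]
      exact det_univC.map _
    obtain ⟨c, hc, hcrel, hcdet⟩ := exists_lift hI _ hrel hdet
    obtain ⟨f, hf⟩ := exists_hom (R := R) c hcrel hcdet
    refine ⟨f, hom_ext fun q => ?_⟩
    rw [AlgHom.comp_apply, hf]
    exact congrFun hc q

end Groth.Agent.AzLift
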